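import Groth.Agent.FormalFun.StalkH
import Groth.Agent.FormalFun.Connected
import Groth.Agent.FormalFun.Finite
import Groth.Agent.ModShf.Flasque
import Groth.Agent.ModShf.GrothAb
import Groth.Agent.ProjTwist.Pn.SupportVanish
import Groth.Agent.ZClosLib.CohDescent
import Mathlib.AlgebraicGeometry.Fiber

/-!
# Higher direct images vanish above the dimension of the fibre
-/

set_option autoImplicit false

universe u

open CategoryTheory Limits AlgebraicGeometry Opposite TopologicalSpace

noncomputable section

namespace Groth.Agent.FormalVan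

open FormalFun

section Supp

variable {A : Type u} [CommRing A] {X : Scheme.{u}} [X.Over (Spec (CommRingCat.of A))]

/-- `M / I^n M` lives over `V(I)`. -/
theorem mem_zeroLocus_of_mem_support_modPow (I : Ideal A) (n : ℕ) (M : X.Modules) {x : X}
    (hx : x ∈ CohB1.support (Formal.modPow I n M)) :
    (I : Set A) ⊆ ((X ↘ Spec (CommRingCat.of A)) x).asIdeal := by
  intro a ha
  by_contra hna
  refine hx (subsingleton_of_forall_eq 0 fun t => ?_)
  let Q := Formal.modPow I n M
  have hz : Formal.smulMod A Q (a ^ n) = 0 := by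
    have : Epi (Formal.modPowπ I n M) := inferInstanceAs (Epi (cokernel.π _))
    rw [← cancel_epi (Formal.modPowπ I n M), ← smulMod_natural, comp_zero]
    exact smulMod_comp_π M (Ideal.pow_mem_pow ha n)
  obtain ⟨U, hxU, s, rfl⟩ := Q.presheaf.exists_germ_eq t
  let D : X.Opens := U ⊓ (X ↘ Spec (CommRingCat.of A)) ⁻¹ᵁ PrimeSpectrum.basicOpen a
  have hxD : x ∈ D := ⟨hxU, hna⟩
  obtain ⟨b, hb⟩ := ((isUnit_gA (A := A) (X := X) a (inf_le_right : D ≤ _)).pow n).exists_left_inv
  have h0 : gA (A := A) (X := X) D a ^ n • Q.presheaf.map (homOfLE (inf_le_left : D ≤ U)).op s = 0 := by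
    rw [← map_pow, ← smulMod_app, hz]
    rfl
  have h1 : Q.presheaf.map (homOfLE (inf_le_left : D ≤ U)).op s = 0 := by
    have := congrArg (fun z : Γ(Q, D) => b • z) h0
    rwa [smul_zero, smul_smul, hb, one_smul] at this
  rw [← TopCat.Presheaf.germ_res_apply Q.presheaf (homOfLE (inf_le_left : D ≤ U)) x hxD, h1, map_zero]

end Supp

theorem isZero_stalk_RpushAb {X Y : Scheme.{u}} (f : X ⟶ Y) [IsProper f] [IsLocallyNoetherian Y]
    (y : Y) (d : ℕ) (hd : topologicalKrullDim ↥(f.fiber y) ≤ d) (M : X.Modules) (hM : Coh.IsCoh M)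
    (p : ℕ) (hp : d < p) :
    IsZero (TopCat.Presheaf.stalk ((Coh.RpushAb f p).obj (Coh.toAb M)).obj y) := by
  let R := Y.presheaf.stalk y
  let X₁ := pullback f (Y.fromSpecStalk y)
  let g : X₁ ⟶ X := pullback.fst _ _
  let : X₁.Over (Spec (CommRingCat.of R)) := ⟨pullback.snd _ _⟩
  have hsq : IsPullback g (X₁ ↘ Spec (CommRingCat.of R)) f (Y.fromSpecStalk y) :=
    IsPullback.of_hasPullback _ _
  have : IsProper (X₁ ↘ Spec (CommRingCat.of R)) := MorphismProperty.of_isPullback hsq ‹_›
  have := isLocallyNoetherian_of_proper R X₁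
  have := compactSpace_of_proper R X₁
  have : IsLocallyNoetherian X := LocallyOfFiniteType.isLocallyNoetherian f
  have : IsNoetherian X₁ := {}
  have : M.IsQuasicoherent := hM.1
  obtain ⟨e⟩ := nonempty_stalkEquiv f M y p X₁ g hsq
  let m := IsLocalRing.maximalIdeal R
  have hM₁ : Coh.IsCoh ((Scheme.Modules.pullback g).obj M) := ZClosLib.CohDescent.isCoh_pullback g M hM
  have hfin := finiteCoh_of_proper R X₁
  have := hfin _ hM₁ p
  obtain ⟨e'⟩ := formal_functions m p hfin hM₁
  -- the truncations live on the fibre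
  have hz : ∀ n, Subsingleton (Formal.HHmodPow m ((Scheme.Modules.pullback g).obj M) p n) := by
    intro n
    refine ProjTwist.Pn.subsingleton_of_supportDim_le (isCoh_modPow (I := m) hM₁ (n + 1)) d ?_ p hp
    have hcl : ∀ x : CohB1.support (Formal.modPow m (n + 1) ((Scheme.Modules.pullback g).obj M)),
        g x.1 ∈ (f.base ⁻¹' {y} : Set X) := by
      intro x
      have h := mem_zeroLocus_of_mem_support_modPow m _ _ x.2
      have h2 : (X₁ ↘ Spec (CommRingCat.of R)) x.1 = IsLocalRing.closedPoint R :=
        PrimeSpectrum.ext (le_antisymm (IsLocalRing.le_maximalIdeal (PrimeSpectrum.isPrime _).ne_top) h)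
      have h3 : f (g x.1) = Y.fromSpecStalk y ((X₁ ↘ Spec (CommRingCat.of R)) x.1) := by
        rw [← Scheme.Hom.comp_apply, hsq.w, Scheme.Hom.comp_apply]
      rw [Set.mem_preimage, Set.mem_singleton_iff]
      exact h3.trans ((congrArg _ h2).trans Scheme.fromSpecStalk_closedPoint)
    have : IsPreimmersion g := MorphismProperty.of_isPullback hsq.flip inferInstance
    let j : CohB1.support (Formal.modPow m (n + 1) ((Scheme.Modules.pullback g).obj M)) → (f.base ⁻¹' {y} : Set X) :=
      Set.codRestrict (fun x => g x.1) _ hcl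
    have hj : Topology.IsInducing j :=
      (g.isEmbedding.isInducing.comp Topology.IsInducing.subtypeVal).codRestrict _
    exact ((f.fiberHomeo y).symm.isInducing.comp hj).topologicalKrullDim_le.trans hd
  -- so the completion, hence the finite module, vanishes
  have : Subsingleton (Formal.HHlim m ((Scheme.Modules.pullback g).obj M) p) :=
    ⟨fun a b => Subtype.ext (funext fun n => (hz n).elim _ _)⟩
  have : Subsingleton (AdicCompletion m (Coh.HH X₁ ((Scheme.Modules.pullback g).obj M) p)) :=
    e'.injective.subsingleton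
  have hH : Subsingleton (Coh.HH X₁ ((Scheme.Modules.pullback g).obj M) p) := by
    have h1 : (⊤ : Submodule R (Coh.HH X₁ ((Scheme.Modules.pullback g).obj M) p)) ≤ m ^ 1 • ⊤ := fun z _ => by
      have := Subsingleton.elim (AdicCompletion.of m _ z) 0
      exact (Submodule.Quotient.mk_eq_zero _).mp (congrArg (fun w => AdicCompletion.eval m _ 1 w) this)
    rw [pow_one] at h1
    have := Submodule.eq_bot_of_le_smul_of_le_jacobson_bot m ⊤ Module.Finite.fg_top h1
      (IsLocalRing.maximalIdeal_le_jacobson ⊥)
    exact subsingleton_of_forall_eq 0 fun z => (Submodule.mem_bot R).mp (this ▸ Submodule.mem_top)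
  have : Subsingleton (((Coh.Rpush f p).obj M).presheaf.stalk y) := e.injective.subsingleton
  refine IsZero.of_iso ?_
    ((TopCat.Presheaf.stalkFunctor AddCommGrpCat.{u} y).mapIso
      ((sheafToPresheaf _ _).mapIso ((ModShf.rpushCompToAb f p).app M).symm))
  exact @AddCommGrpCat.isZero_of_subsingleton _
    ‹Subsingleton (((Coh.Rpush f p).obj M).presheaf.stalk y)›

end Groth.Agent.FormalVan
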